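import Groth.Agent.Lib.Algz25.SymSpec
import Groth.Agent.Lib.Algz3.ClosedSub
import Groth.Agent.Lib.Cyc26.PushFin
import Groth.Agent.Lib.ClSub24.Proper

/-!
Algebraization of a formal scheme finite over the completion, with proper closed fibre.
-/

set_option autoImplicit false
set_option linter.style.haveILetI false
set_option backward.isDefEq.respectTransparency false

universe u

open CategoryTheory CategoryTheory.Limits AlgebraicGeometry Opposite TopologicalSpace

namespace Groth.Agent.Algz25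

open Groth.Agent.GExistH7 Groth.Agent.FormalH7 Groth.Agent.Algz3

variable {A : Type u} [CommRing A] [IsNoetherianRing A] {I : Ideal A} {X : Scheme.{u}}
  [X.Over (Spec (CommRingCat.of A))] [LocallyOfFiniteType (X ↘ Spec (CommRingCat.of A))]
  (Y : ℕ → Scheme.{u}) (p : (n : ℕ) → (Y n ⟶ Spec (CommRingCat.of (A ⧸ I ^ (n + 1)))))
  (t : (n : ℕ) → (Y n ⟶ Y (n + 1))) (hcart : ∀ n, IsPullback (t n) (p n) (p (n + 1)) (CohB1.specQuotTrans I n))
  (q : ∀ n, Y n ⟶ X) (hqc : ∀ n, t n ≫ q (n + 1) = q n)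
  (hqA : ∀ n, q n ≫ (X ↘ Spec (CommRingCat.of A)) = p n ≫ CohB1.specQuot I n) [∀ n, IsFinite (q n)]

include hcart hqc hqA in
/-- The direct images of the structure sheaves form a coherent system. -/
theorem isSys_pushUnit [IsLocallyNoetherian X] :
    IsSys I (Functor.ofOpSequence (X := fun n => (Scheme.Modules.pushforward (q n)).obj (Coh.structureModule (Y n)))
      (fun n => pushTrans (hqc n) (Twist.pullbackUnitIso (t n)).hom)) := by
  haveI : ∀ n, IsLocallyNoetherian (Y n) := fun n => LocallyOfFiniteType.isLocallyNoetherian (q n)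
  let S : UVan10.TSys I :=
    { X := Y, p := p, i := t, hcart := hcart
      F := fun n => Coh.structureModule (Y n)
      hF := fun n => M1.isCoh_structureModule (Y n)
      ψ := fun n => Twist.pullbackUnitIso (t n) }
  have hcoh : ∀ n, Coh.IsCoh ((Scheme.Modules.pushforward (q n)).obj (Coh.structureModule (Y n))) :=
    fun n => Cyc26.isCoh_push_finite (q n) (M1.isCoh_structureModule (Y n))
  refine isSys_ofOpSequence _ hcoh (fun n => Algz3.killedBy_pushF S q hqA n) fun n => ?_
  refine isQuot_of_sections (ι := X.affineOpens) (fun W => W.1) (fun W => W.2)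
    (fun x => by
      obtain ⟨_, ⟨W, hW, rfl⟩, hxW, -⟩ := X.isBasis_affineOpens.exists_subset_of_mem_open (Set.mem_univ x) isOpen_univ
      exact ⟨⟨W, hW⟩, hxW⟩)
    (hcoh (n + 1)).1 (hcoh n).1 _ (Algz3.killedBy_pushF S q hqA n) (fun W y => ?_) fun W s hs => ?_
  · haveI : IsClosedImmersion (t n) := UVan10.TSys.isClosedImmersion_i S n
    have hV : IsAffineOpen (q (n + 1) ⁻¹ᵁ W.1) := W.2.preimage _
    have e : q n ⁻¹ᵁ W.1 = t n ⁻¹ᵁ (q (n + 1) ⁻¹ᵁ W.1) := by rw [← Scheme.Hom.comp_preimage, hqc]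
    let y' : Γ(Y n, q n ⁻¹ᵁ W.1) := y
    obtain ⟨x, hx⟩ := (t n).app_surjective _ hV ((Y n).presheaf.map (eqToHom e.symm).op y')
    refine ⟨x, (pushTrans_unit_app (hqc n) W.1 x).trans ?_⟩
    show (Y n).presheaf.map (homOfLE e.le).op ((t n).app _ x) = y'
    rw [hx, ← CommRingCat.comp_apply, ← Functor.map_comp,
      Subsingleton.elim ((eqToHom e.symm).op ≫ (homOfLE e.le).op) (𝟙 _), CategoryTheory.Functor.map_id]
    rfl
  · have hV : IsAffineOpen (q (n + 1) ⁻¹ᵁ W.1) := W.2.preimage _
    have e : q n ⁻¹ᵁ W.1 = t n ⁻¹ᵁ (q (n + 1) ⁻¹ᵁ W.1) := by rw [← Scheme.Hom.comp_preimage, hqc]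
    have hz : (show Γ(Y (n + 1), q (n + 1) ⁻¹ᵁ W.1) from s) ∈ RingHom.ker ((S.i n).app _).hom := by
      have h : (Y n).presheaf.map (homOfLE e.le).op ((t n).app _ s) = 0 :=
        (pushTrans_unit_app (hqc n) W.1 s).symm.trans hs
      have h2 : (Y n).presheaf.map (eqToHom e.symm).op ((Y n).presheaf.map (homOfLE e.le).op ((t n).app _ s)) =
          (Y n).presheaf.map (eqToHom e.symm).op 0 := by rw [h]
      rw [map_zero, ← CommRingCat.comp_apply, ← Functor.map_comp,
        Subsingleton.elim ((homOfLE e.le).op ≫ (eqToHom e.symm).op) (𝟙 _), CategoryTheory.Functor.map_id] at h2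
      exact h2
    rw [S.ker_app n hV] at hz
    have key : ∀ x ∈ S.cI (n + 1) (q (n + 1) ⁻¹ᵁ W.1) (I ^ (n + 1)), ∀ b : Γ(Y (n + 1), q (n + 1) ⁻¹ᵁ W.1),
        (show Γ((Scheme.Modules.pushforward (q (n + 1))).obj (Coh.structureModule (Y (n + 1))), W.1) from x * b) ∈
          ((I ^ (n + 1)).map (multHom X W.1) • ⊤ : Submodule Γ(X, W.1)
            Γ((Scheme.Modules.pushforward (q (n + 1))).obj (Coh.structureModule (Y (n + 1))), W.1)) := by
      intro x hx
      induction hx using Submodule.span_induction with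
      | mem x hx =>
        obtain ⟨a, ha, rfl⟩ := hx
        intro b
        rw [← Algz3.app_mult S q hqA]
        exact Submodule.smul_mem_smul (M := Γ((Scheme.Modules.pushforward (q (n + 1))).obj
          (Coh.structureModule (Y (n + 1))), W.1)) (Ideal.mem_map_of_mem (multHom X W.1) ha) (n := b) trivial
      | zero => intro b; rw [zero_mul]; exact zero_mem _
      | add x y _ _ hx hy => intro b; rw [add_mul]; exact add_mem (hx b) (hy b)
      | smul c x _ hx => intro b; rw [smul_eq_mul, mul_comm c x, mul_assoc]; exact hx (c * b)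
    have h1 := key _ hz 1
    rw [mul_one] at h1
    exact h1

include hcart hqc hqA in
/-- A formal scheme finite over the completion, with proper closed fibre, comes from a finite scheme. -/
theorem exists_finite_algebraization [IsAdicComplete I A] [IsSeparated (X ↘ Spec (CommRingCat.of A))]
    [QuasiCompact (X ↘ Spec (CommRingCat.of A))] (hp : IsProper (p 0)) :
    ∃ (W : Scheme.{u}) (i : W ⟶ X) (w : ∀ n, Y n ⟶ W), IsFinite i ∧
      IsProper (i ≫ (X ↘ Spec (CommRingCat.of A))) ∧ (∀ n, w n ≫ i = q n) ∧ (∀ n, w n = t n ≫ w (n + 1)) ∧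
        ∀ n, IsPullback (w n) (p n) (i ≫ (X ↘ Spec (CommRingCat.of A))) (CohB1.specQuot I n) := by
  let f := X ↘ Spec (CommRingCat.of A)
  haveI : IsLocallyNoetherian X := LocallyOfFiniteType.isLocallyNoetherian f
  have hS := isSys_pushUnit Y p t hcart q hqc hqA
  have hsupp : CohB1.support ((Scheme.Modules.pushforward (q 0)).obj (Coh.structureModule (Y 0))) ⊆
      Set.range (q 0) := fun x hx => by
    by_contra h
    haveI : IsLocallyNoetherian (Y 0) := LocallyOfFiniteType.isLocallyNoetherian (q 0)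
    exact notMem_support_pushforward (q 0)
      ((q 0).isClosedMap _ (M1.isClosed_support (M1.isCoh_structureModule (Y 0)).2))
      (fun ⟨z, _, e⟩ => h ⟨z, e⟩) hx
  have hrange : ClSub.IsProperOver f (Set.range (q 0)) := by
    haveI := hp
    haveI : IsClosedImmersion (CohB1.specQuot I 0) :=
      IsClosedImmersion.spec_of_surjective _ Ideal.Quotient.mk_surjective
    haveI : IsProper (q 0 ≫ f) := by
      rw [hqA 0]
      infer_instance
    haveI : IsProper (𝟙 (Y 0) ≫ q 0 ≫ f) := by rwa [Category.id_comp]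
    have := ClSub24.isProperOver_image (q 0 ≫ f) f (q 0) rfl (Or.inl inferInstance)
      (LimH13.isProperOver_of_isProper (q 0 ≫ f) (𝟙 (Y 0)) (Z := Set.univ) (Set.range_eq_univ.2 fun y => ⟨y, rfl⟩))
    rwa [Set.image_univ] at this
  have h0 := ClSub24.isProperOver_subset f hsupp (M1.isClosed_support (hS.coh 0).2) hrange
  obtain ⟨M, χ, hM, hq, hc⟩ := algAll_PS_main (X := X) I _ hS (ps_sys hS h0)
  have hχc : ∀ n, χ (n + 1) ≫ pushTrans (hqc n) (Twist.pullbackUnitIso (t n)).hom = χ n := fun n =>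
    (congrArg (fun g => χ (n + 1) ≫ g) (gm_ofOpSequence (X := X)
      (M := fun n => (Scheme.Modules.pushforward (q n)).obj (Coh.structureModule (Y n)))
      (fun n => pushTrans (hqc n) (Twist.pullbackUnitIso (t n)).hom) n).symm).trans (hc n)
  let P := (SymAlg11.symQC hM.1.1).spec
  let π : P ⟶ X := (SymAlg11.symQC hM.1.1).π
  haveI : LocallyOfFiniteType π := locallyOfFiniteType_symSpec hM.1.1 hM.1.2
  haveI : IsAffineHom π := RelSpec.QCAlg.isAffineHom_π _
  letI : P.Over (Spec (CommRingCat.of A)) := ⟨π ≫ f⟩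
  haveI : IsSeparated (P ↘ Spec (CommRingCat.of A)) := inferInstanceAs (IsSeparated (π ≫ f))
  haveI : LocallyOfFiniteType (P ↘ Spec (CommRingCat.of A)) := inferInstanceAs (LocallyOfFiniteType (π ≫ f))
  haveI : QuasiCompact (P ↘ Spec (CommRingCat.of A)) := inferInstanceAs (QuasiCompact (π ≫ f))
  let r : ∀ n, Y n ⟶ P := fun n => toSymSpec hM.1.1 (q n) (χ n)
  haveI : ∀ n, IsClosedImmersion (r n) := fun n => by
    haveI : Epi (χ n) := (hq n).epi
    exact isClosedImmersion_toSymSpec hM.1.1 (q n) (χ n) fun U hU =>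
      M1.app_surjective_affine_of_isQCoh hM.1.1 (hS.coh n).1 (χ n) hU
  obtain ⟨J, w, hJ, hw, hwt, hpb⟩ := Algz3.exists_closed_algebraization (I := I) (X := P) Y p t hcart r
    (fun n => toSymSpec_trans hM.1.1 (q n) (χ n) (χ (n + 1)) (hqc n) (hχc n))
    (fun n => by
      show r n ≫ π ≫ f = _
      rw [← Category.assoc, toSymSpec_π]
      exact hqA n) hp
  have hJ' : IsProper ((J.subschemeι ≫ π) ≫ f) := by
    rw [Category.assoc]
    exact hJ
  haveI := hJ'
  haveI : IsProper (J.subschemeι ≫ π) := IsProper.of_comp (J.subschemeι ≫ π) f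
  haveI : IsAffineHom (J.subschemeι ≫ π) := inferInstance
  refine ⟨J.subscheme, J.subschemeι ≫ π, w, IsFinite.iff_isProper_and_isAffineHom.2 ⟨inferInstance, inferInstance⟩,
    hJ', fun n => ?_, hwt, fun n => ?_⟩
  · rw [← Category.assoc, hw, toSymSpec_π]
  · rw [Category.assoc]
    exact hpb n

end Groth.Agent.Algz25
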