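import Groth.Agent.Lib.GExistH7.SysBridge
import Groth.Agent.Lib.SymAlg11.Sheaf
import Groth.Agent.Lib.SymAlg11.Spec
import Groth.Agent.Lib.LimH13.AffineSpec
import Groth.Agent.Lib.FrobTr12.Main
import Groth.Agent.Lib.Twist.Pullback
import Groth.Agent.Lib.SmoothRetractH7.Free
import Groth.Agent.Lib.ModM1.Coh

/-!
A scheme affine over the base embeds in the relative spectrum of the symmetric algebra of a module
surjecting onto its direct image algebra.
-/

set_option autoImplicit false
set_option linter.style.haveILetI false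
set_option backward.isDefEq.respectTransparency false

universe u

open CategoryTheory CategoryTheory.Limits AlgebraicGeometry Opposite TopologicalSpace

noncomputable section

namespace Groth.Agent.Algz25

variable {X Y Y' : Scheme.{u}}

/-- The direct image of the structure sheaf as the module of the direct image algebra. -/
def pushUnitIso (f : Y ⟶ X) [QuasiCompact f] [QuasiSeparated f] :
    (Scheme.Modules.pushforward f).obj (Coh.structureModule Y) ≅ (RelSpec.QCAlg.directImage f).toModule where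
  hom := FrobTr12.mkMap (M := (Scheme.Modules.pushforward f).obj (Coh.structureModule Y))
    (N := (RelSpec.QCAlg.directImage f).toModule)
    (fun _ a => a) (fun _ _ _ => rfl) (fun _ _ => rfl) (fun _ _ _ => rfl)
  inv := FrobTr12.mkMap (M := (RelSpec.QCAlg.directImage f).toModule)
    (N := (Scheme.Modules.pushforward f).obj (Coh.structureModule Y))
    (fun _ a => a) (fun _ _ _ => rfl) (fun _ _ => rfl) (fun _ _ _ => rfl)
  hom_inv_id := Scheme.Modules.hom_ext _ _ fun _ => rfl
  inv_hom_id := Scheme.Modules.hom_ext _ _ fun _ => rfl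

section trans

variable {t : Y ⟶ Y'} {q' : Y' ⟶ X} {q : Y ⟶ X} (w : t ≫ q' = q)

/-- The transition of direct images of structure sheaves on sections. -/
theorem pushTrans_unit_app (U : X.Opens) (s : Γ(Y', q' ⁻¹ᵁ U)) :
    (GExistH7.pushTrans w (Twist.pullbackUnitIso t).hom).app U s =
      t.appLE (q' ⁻¹ᵁ U) (q ⁻¹ᵁ U) (GExistH7.preimage_le_of_comp w U) s := by
  show M1.mres (Coh.structureModule Y) (GExistH7.preimage_le_of_comp w U)
    (((Scheme.Modules.pullbackPushforwardAdjunction t).homEquiv _ _ (Twist.pullbackUnitIso t).hom).app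
      (q' ⁻¹ᵁ U) s) = _
  have h : (Scheme.Modules.pullbackPushforwardAdjunction t).homEquiv (Coh.structureModule Y')
      (Coh.structureModule Y) (Twist.pullbackUnitIso t).hom =
      SheafOfModules.unitToPushforwardObjUnit t.toRingCatSheafHom :=
    ((Scheme.Modules.pullbackPushforwardAdjunction t).homEquiv (Coh.structureModule Y')
      (Coh.structureModule Y)).apply_symm_apply _
  rw [h]
  rfl

/-- The transition of direct image algebras. -/
def algTrans [QuasiCompact q] [QuasiSeparated q] [QuasiCompact q'] [QuasiSeparated q'] :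
    RelSpec.QCAlg.directImage q' ⟶ RelSpec.QCAlg.directImage q where
  hom :=
    { app := fun U => t.appLE (q' ⁻¹ᵁ U.unop) (q ⁻¹ᵁ U.unop) (GExistH7.preimage_le_of_comp w U.unop)
      naturality := fun U V i => by
        show Y'.presheaf.map _ ≫ t.appLE _ _ _ = t.appLE _ _ _ ≫ Y.presheaf.map _
        rw [Scheme.Hom.map_appLE, Scheme.Hom.appLE_map] }
  comm := by
    refine NatTrans.ext (funext fun U => ?_)
    show q'.app U.unop ≫ t.appLE _ _ _ = q.app U.unop
    subst w
    simp [Scheme.Hom.appLE]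

end trans

section sym

variable {M : X.Modules} (hM : Coh.IsQCoh M) (f : Y ⟶ X) [IsAffineHom f]
  (χ : M ⟶ (Scheme.Modules.pushforward f).obj (Coh.structureModule Y))

/-- The algebra map out of the symmetric algebra. -/
def symMapTo : SymAlg11.symQC hM ⟶ RelSpec.QCAlg.directImage f :=
  ((SymAlg11.isSymAlg_symQC hM) _ (χ ≫ (pushUnitIso f).hom)).exists.choose

theorem symMapTo_spec :
    SymAlg11.symGen hM ≫ RelSpec.QCAlg.Hom.toModuleMap (symMapTo hM f χ) = χ ≫ (pushUnitIso f).hom :=
  ((SymAlg11.isSymAlg_symQC hM) _ (χ ≫ (pushUnitIso f).hom)).exists.choose_spec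

theorem symMapTo_gen (U : X.Opens) (m : Γ(M, U)) :
    ((symMapTo hM f χ).hom.app (op U)).hom ((SymAlg11.symGen hM).app U m) = χ.app U m :=
  congrArg (fun g => Scheme.Modules.Hom.app g U m) (symMapTo_spec hM f χ)

/-- The map into the relative spectrum of the symmetric algebra. -/
def toSymSpec : Y ⟶ (SymAlg11.symQC hM).spec :=
  LimH13.SubAlg.toSpec f ≫ RelSpec.QCAlg.specMap (symMapTo hM f χ)

theorem toSymSpec_π : toSymSpec hM f χ ≫ (SymAlg11.symQC hM).π = f := by
  rw [toSymSpec, Category.assoc, RelSpec.QCAlg.specMap_π, LimH13.SubAlg.toSpec_π]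

theorem ι_toSymSpec (U : X.Opens) (hU : IsAffineOpen U) :
    (f ⁻¹ᵁ U).ι ≫ toSymSpec hM f χ =
      (f ⁻¹ᵁ U).toSpecΓ ≫ Spec.map ((symMapTo hM f χ).hom.app (op U)) ≫ (SymAlg11.symQC hM).ι U hU := by
  rw [toSymSpec, reassoc_of% (LimH13.SubAlg.ι_toSpec f U hU), RelSpec.QCAlg.ι_specMap U hU]

theorem isClosedImmersion_toSymSpec
    (h : ∀ U : X.Opens, IsAffineOpen U → Function.Surjective (χ.app U)) :
    IsClosedImmersion (toSymSpec hM f χ) := by
  haveI : IsClosedImmersion (RelSpec.QCAlg.specMap (symMapTo hM f χ)) :=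
    SymAlg11.specMap_of_forall @IsClosedImmersion _ fun U hU =>
      IsClosedImmersion.spec_of_surjective _ fun y => by
        obtain ⟨m, hm⟩ := h U hU y
        exact ⟨_, (symMapTo_gen hM f χ U m).trans hm⟩
  unfold toSymSpec
  infer_instance

theorem toSymSpec_trans {f' : Y' ⟶ X} [IsAffineHom f']
    (χ' : M ⟶ (Scheme.Modules.pushforward f').obj (Coh.structureModule Y')) {t : Y ⟶ Y'} (w : t ≫ f' = f)
    (hχ : χ' ≫ GExistH7.pushTrans w (Twist.pullbackUnitIso t).hom = χ) :
    t ≫ toSymSpec hM f' χ' = toSymSpec hM f χ := by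
  have key : symMapTo hM f' χ' ≫ algTrans w = symMapTo hM f χ := by
    refine ((SymAlg11.isSymAlg_symQC hM) _ (χ ≫ (pushUnitIso f).hom)).unique
      (Scheme.Modules.hom_ext _ _ fun U => ?_) (symMapTo_spec hM f χ)
    ext m
    show ((algTrans w).hom.app (op U)).hom (((symMapTo hM f' χ').hom.app (op U)).hom
      ((SymAlg11.symGen hM).app U m)) = χ.app U m
    rw [symMapTo_gen]
    exact (pushTrans_unit_app w U (χ'.app U m)).symm.trans
      (congrArg (fun g => Scheme.Modules.Hom.app g U m) hχ)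
  refine Scheme.Cover.hom_ext (Y.openCoverOfIsOpenCover (fun U : X.affineOpens => f ⁻¹ᵁ U.1)
    (.comap (iSup_affineOpens_eq_top X) f.base.1)) _ _ fun U => ?_
  change (f ⁻¹ᵁ U.1).ι ≫ t ≫ toSymSpec hM f' χ' = (f ⁻¹ᵁ U.1).ι ≫ toSymSpec hM f χ
  rw [ι_toSymSpec hM f χ U.1 U.2, ← Scheme.Hom.resLE_comp_ι_assoc t (GExistH7.preimage_le_of_comp w U.1),
    ι_toSymSpec hM f' χ' U.1 U.2, ← key]
  have h1 : Scheme.Hom.resLE t (f' ⁻¹ᵁ U.1) (f ⁻¹ᵁ U.1) (GExistH7.preimage_le_of_comp w U.1) ≫
      (f' ⁻¹ᵁ U.1).toSpecΓ = (f ⁻¹ᵁ U.1).toSpecΓ ≫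
        Spec.map (t.appLE _ _ (GExistH7.preimage_le_of_comp w U.1)) := by
    rw [Scheme.Opens.toSpecΓ_SpecMap_appLE]
  rw [reassoc_of% h1, ← Spec.map_comp_assoc]
  rfl

theorem locallyOfFiniteType_symSpec (hFT : CohB1.IsFT M) : LocallyOfFiniteType (SymAlg11.symQC hM).π := by
  refine SymAlg11.π_of_forall @LocallyOfFiniteType (fun f _ => inferInstance) _ fun U hU => ?_
  rw [HasRingHomProperty.Spec_iff (P := @LocallyOfFiniteType)]
  haveI : Module.Finite Γ(X, U) Γ(M, U) := M1.finite_sections hM hFT hU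
  haveI := SmoothRetractH7.finiteType_symmetricAlgebra Γ(X, U) Γ(M, U)
  have h : ((SymAlg11.symQC hM).str.app (op U)).hom =
      (SymAlg11.symEquiv hM U hU).symm.toRingHom.comp (algebraMap Γ(X, U) (SymAlg11.SymOn M U)) :=
    RingHom.ext fun r => by
      show _ = (SymAlg11.symEquiv hM U hU).symm _
      rw [← SymAlg11.symEquiv_str hM U hU r, RingEquiv.symm_apply_apply]
  rw [h]
  exact RingHom.FiniteType.comp
    (RingHom.FiniteType.of_surjective _ (SymAlg11.symEquiv hM U hU).symm.surjective)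
    (RingHom.finiteType_algebraMap.2 inferInstance)

end sym

end Groth.Agent.Algz25
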